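import Groth.Agent.CohBase.CxBaseChange
import Mathlib

/-!
Flatness of the cohomology of the base changes of a complex of flat modules.
-/

set_option autoImplicit false
universe u

open CategoryTheory CategoryTheory.Limits TensorProduct

namespace Groth.HigherImagesFlat

open Groth.CohBase Groth.CohBase.CxRank Groth.FlatCxBase

variable {A : Type u} [CommRing A] (L : CochainComplex (ModuleCat.{u} A) ℤ)

/-- The cohomology of the base change is flat from degree `m` on. -/
def HFlat (m : ℤ) (B : Type u) [CommRing B] [Algebra A B] : Prop :=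
  ∀ j, m ≤ j → Module.Flat B (LinearMap.ker ((dq L j).baseChange B))

/-- `T_j` vanishes in high degrees for every module. -/
def HasBound : Prop := ∃ b : ℤ, ∀ j, b < j → ∀ M : ModuleCat.{u} A, IsZero (CohIII.T L j M)

theorem HasBound.bc (h : HasBound L) (B : Type u) [CommRing B] [Algebra A B] : HasBound (bcL B L) :=
  let ⟨b, hb⟩ := h; ⟨b, fun j hj M => isZero_T_bc B L j (hb j hj) M⟩

theorem flat_bc [∀ i, Module.Flat A (L.X i)] (B : Type u) [CommRing B] [Algebra A B] (i : ℤ) :
    Module.Flat B ((bcL B L).X i) :=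
  Module.Flat.of_linearEquiv (xBC B L i)

theorem flat_Qc [∀ i, Module.Flat A (L.X i)] (hb : HasBound L) (m : ℤ)
    (h : ∀ j, m ≤ j → Module.Flat A (Hk L j)) : ∀ j, m ≤ j → Module.Flat A (Qc L j) := by
  obtain ⟨b, hb⟩ := hb
  suffices ∀ k : ℕ, ∀ j, m ≤ j → b + 1 < j + k → Module.Flat A (Qc L j) from
    fun j hj => this (b + 2 - j).toNat j hj (by omega)
  intro k
  induction k with
  | zero =>
    intro j _ hj
    have h1 := flat_Qc_succ_of_isZero L (j - 1) (hb (j - 1) (by omega))
    rwa [sub_add_cancel] at h1
  | succ k ih => exact fun j hj hk => flat_Qc_of_next L j (ih (j + 1) (by omega) (by omega)) (h j hj)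

/-- Kernels of the differentials out of flat cokernels commute with base change. -/
theorem nonempty_kerEquiv [∀ i, Module.Flat A (L.X i)] (B : Type u) [CommRing B] [Algebra A B] (j : ℤ)
    (h : Module.Flat A (Qc L (j + 1))) :
    Nonempty (B ⊗[A] Hk L j ≃ₗ[B] LinearMap.ker ((dq L j).baseChange B)) :=
  haveI : Module.Flat A (L.X (j + 1) ⧸ LinearMap.range (dq L j)) :=
    Module.Flat.of_linearEquiv (cokerDqEquiv L j)
  ⟨kerBaseChangeEquiv B (dq L j)⟩

/-- With flat higher cohomology over the base, the cohomology of a base change is flat in degrees `≥ m` exactly when it is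
so in degrees `≥ m + 1` and the base change of the cohomology in degree `m` is flat. -/
theorem hflat_iff [∀ i, Module.Flat A (L.X i)] (hb : HasBound L) (m : ℤ)
    (h : ∀ j, m + 1 ≤ j → Module.Flat A (Hk L j)) (B : Type u) [CommRing B] [Algebra A B] :
    HFlat L m B ↔ Module.Flat B (B ⊗[A] Hk L m) := by
  have hQ := flat_Qc L hb (m + 1) h
  obtain ⟨e⟩ := nonempty_kerEquiv L B m (hQ _ le_rfl)
  refine ⟨fun hm => haveI := hm m le_rfl; Module.Flat.of_linearEquiv e, fun hB j hj => ?_⟩
  rcases hj.lt_or_eq with hlt | rfl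
  · obtain ⟨e'⟩ := nonempty_kerEquiv L B j (hQ _ (by omega))
    haveI := h j (by omega)
    exact Module.Flat.of_linearEquiv e'.symm
  · exact Module.Flat.of_linearEquiv e.symm

/-- Flatness of the cohomology of base changes is stable under further base change. -/
theorem HFlat.trans [∀ i, Module.Flat A (L.X i)] (hb : HasBound L) (m : ℤ) {B : Type u} [CommRing B] [Algebra A B]
    (h : HFlat L m B) (K : Type u) [CommRing K] [Algebra A K] [Algebra B K] [IsScalarTower A B K] :
    HFlat L m K := by
  haveI := flat_bc L B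
  have hH : ∀ j, m ≤ j → Module.Flat B (Hk (bcL B L) j) := fun j hj =>
    haveI := h j hj; Module.Flat.of_linearEquiv (hkBC B L j)
  intro j hj
  obtain ⟨e⟩ := nonempty_kerEquiv (bcL B L) K j (flat_Qc (bcL B L) (hb.bc L B) m hH _ (by omega))
  haveI := hH j hj
  exact Module.Flat.of_linearEquiv (e.trans (kerBC B L j K)).symm

end Groth.HigherImagesFlat
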