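import Groth.Agent.HigherImagesFlat.Model
import Groth.Agent.Flatmor4.FlatModAffine
import Mathlib

/-!
Flatness of higher direct images over an affine base, read off on Čech models.
-/

set_option autoImplicit false
set_option linter.style.haveILetI false
universe u

open CategoryTheory CategoryTheory.Limits AlgebraicGeometry Opposite TopologicalSpace
open scoped TensorProduct

namespace Groth.HigherImagesFlat

open Groth.CohBase Groth.CohBase.CxRank Groth.FlatCxBase

/-- Above the bound every base change has flat cohomology. -/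
theorem HasBound.exists_hflat {A : Type u} [CommRing A] {L : CochainComplex (ModuleCat.{u} A) ℤ}
    [∀ i, Module.Flat A (L.X i)] (h : HasBound L) :
    ∃ b : ℤ, ∀ (B : Type u) [CommRing B] [Algebra A B] (m : ℤ), b < m → HFlat L m B := by
  obtain ⟨b, hb⟩ := h
  refine ⟨b, fun B _ _ m hm j hj => ?_⟩
  obtain ⟨e⟩ := nonempty_kerEquiv L B j (by
    have h1 := flat_Qc_succ_of_isZero L j (hb j (by omega))
    exact h1)
  haveI : Subsingleton (Hk L j) := by
    haveI : Subsingleton ((CohIII.TFun L j).obj (ModuleCat.of A A)) :=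
      ModuleCat.subsingleton_of_isZero (hb j (by omega) (ModuleCat.of A A))
    exact (tOneEquiv L j).symm.injective.subsingleton
  exact Module.Flat.of_linearEquiv e.symm

/-- The kernel after the trivial base change. -/
noncomputable def kerSelf {A : Type u} [CommRing A] (L : CochainComplex (ModuleCat.{u} A) ℤ) (j : ℤ) :
    LinearMap.ker ((dq L j).baseChange A) ≃ₗ[A] Hk L j :=
  (TensorProduct.lid A (Qc L j)).ofSubmodules _ _ (by
    have key : ∀ z, dq L j (TensorProduct.lid A _ z) = TensorProduct.lid A _ ((dq L j).baseChange A z) := by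
      intro z
      induction z using TensorProduct.induction_on with
      | zero => simp
      | tmul a x => simp
      | add a b ha hb => simp [ha, hb]
    ext q
    constructor
    · rintro ⟨z, hz, rfl⟩
      exact (key z).trans (by rw [show (dq L j).baseChange A z = 0 from hz, map_zero])
    · intro hq
      refine ⟨(TensorProduct.lid A _).symm q, ?_, LinearEquiv.apply_symm_apply _ q⟩
      apply (TensorProduct.lid A _).injective
      rw [← key, LinearEquiv.apply_symm_apply, map_zero]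
      exact hq)

/-- Flatness over an affine base is flatness of sections over an affine cover. -/
theorem isFlatOver_iff_secA {B : Type u} [CommRing B] {Z : Scheme.{u}} (q : Z ⟶ Spec (CommRingCat.of B))
    (M : Z.Modules) [M.IsQuasicoherent] {ι : Type u} (U : ι → Z.Opens) (hU : ∀ a, IsAffineOpen (U a))
    (hcov : ∀ z : Z, ∃ a, z ∈ U a) :
    letI : Z.Over (Spec (CommRingCat.of B)) := ⟨q⟩
    FlatMod.IsFlatOver q M ↔ ∀ a, Module.Flat B (secA B M (U a)) := by
  letI : Z.Over (Spec (CommRingCat.of B)) := ⟨q⟩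
  refine ⟨fun h a => Groth.CohBase.flat_secA B M h (hU a), fun h z => ?_⟩
  obtain ⟨a, ha⟩ := hcov z
  refine (Flatmor4.flat_sections_iff q M (hU a) (isAffineOpen_top _) (V := ⊤) le_top).1 ?_ z ha
  let R₀ : Type u := Γ(Spec (CommRingCat.of B), (⊤ : (Spec (CommRingCat.of B)).Opens))
  let γ := Scheme.ΓSpecIso (CommRingCat.of B)
  letI : Algebra R₀ B := γ.hom.hom.toAlgebra
  letI : Module R₀ (secA B M (U a)) := Module.compHom Γ(M, U a) (q.appLE ⊤ (U a) le_top).hom
  haveI : IsScalarTower R₀ B (secA B M (U a)) := .of_algebraMap_smul fun r s => by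
    show (q.appLE ⊤ (U a) le_top) (γ.inv (γ.hom r)) • (show Γ(M, U a) from s) = _
    rw [γ.hom_inv_id_apply]
    rfl
  haveI : Module.Flat R₀ B :=
    Module.Flat.of_linearEquiv (LinearEquiv.ofBijective (Algebra.linearMap R₀ B)
      (ConcreteCategory.bijective_of_isIso γ.hom)).symm
  haveI := h a
  exact Module.Flat.trans R₀ B (secA B M (U a))

namespace Datum

variable {A : Type u} [CommRing A] (D : Datum (Spec (CommRingCat.of A)))

/-- An affine cover of `Y` with Čech models. -/
structure Charts where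
  ι : Type u
  fin : Finite ι
  V : ι → D.Y.Opens
  aff : ∀ a, IsAffineOpen (V a)
  cov : ∀ y : D.Y, ∃ a, y ∈ V a
  L : ι → CochainComplex (ModuleCat.{u} A) ℤ
  model : ∀ a, D.IsModel (V a) (L a)

theorem nonempty_charts : Nonempty D.Charts := by
  classical
  haveI : CompactSpace D.Y := QuasiCompact.compactSpace_of_compactSpace D.mu
  have hcov : (Set.univ : Set D.Y) ⊆ ⋃ U : D.Y.affineOpens, (U.1 : Set D.Y) := fun x _ => by
    obtain ⟨_, ⟨U, hU, rfl⟩, hxU, -⟩ := D.Y.isBasis_affineOpens.exists_subset_of_mem_open (Set.mem_univ x) isOpen_univ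
    exact Set.mem_iUnion.2 ⟨⟨U, hU⟩, hxU⟩
  obtain ⟨t, ht⟩ := isCompact_univ.elim_finite_subcover _ (fun U : D.Y.affineOpens => U.1.2) hcov
  choose L hL using fun a : t => D.exists_isModel a.1.2
  refine ⟨⟨t, inferInstance, fun a => a.1.1, fun a => a.1.2, fun y => ?_, L, hL⟩⟩
  obtain ⟨U, hU, hyU⟩ := Set.mem_iUnion₂.1 (ht (Set.mem_univ y))
  exact ⟨⟨U, hU⟩, hyU⟩

variable {D} (C : D.Charts)

instance (a : C.ι) (i : ℤ) : Module.Flat A ((C.L a).X i) := (C.model a).1 i

theorem Charts.good_iff {B : Type u} [CommRing B] [Algebra A B] {D' : Datum (Spec (CommRingCat.of B))}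
    (c : Cart D' (Spec.map (CommRingCat.ofHom (algebraMap A B))) D) (n : ℕ) :
    D'.Good n ↔ ∀ a, HFlat (C.L a) n B := by
  letI : D'.Y.Over (Spec (CommRingCat.of B)) := ⟨D'.mu⟩
  haveI : IsAffineHom c.gY := MorphismProperty.of_isPullback c.sqY.flip inferInstance
  have key : ∀ i : ℕ, FlatMod.IsFlatOver D'.mu ((Coh.Rpush D'.f i).obj D'.F) ↔
      ∀ a, Module.Flat B (LinearMap.ker ((dq (C.L a) (i : ℤ)).baseChange B)) := fun i => by
    haveI := Groth.CohBase.isQCoh_Rpush D'.f (M := D'.F) i
    refine (isFlatOver_iff_secA D'.mu _ (fun a => c.gY ⁻¹ᵁ C.V a) (fun a => (C.aff a).preimage c.gY)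
      fun y => C.cov (c.gY y)).trans (forall_congr' fun a => ?_)
    obtain ⟨e⟩ := (C.model a).2.2 B D' c i
    exact Module.Flat.equiv_iff e
  constructor
  · intro h a j hj
    obtain ⟨i, rfl⟩ : ∃ i : ℕ, j = i := ⟨j.toNat, by omega⟩
    exact (key i).1 (h i (by omega)) a
  · intro h i hi
    exact (key i).2 fun a => h a i (by omega)

theorem Charts.good_self_iff (n : ℕ) : D.Good n ↔ ∀ a j, (n : ℤ) ≤ j → Module.Flat A (Hk (C.L a) j) := by
  have h : Spec.map (CommRingCat.ofHom (algebraMap A A)) = 𝟙 _ := Spec.map_id _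
  haveI : IsIso (Spec.map (CommRingCat.ofHom (algebraMap A A))) := by rw [h]; infer_instance
  let c : Cart D (Spec.map (CommRingCat.ofHom (algebraMap A A))) D :=
    { gX := 𝟙 _, gY := 𝟙 _
      sqY := IsPullback.of_horiz_isIso ⟨by rw [h, Category.id_comp, Category.comp_id]⟩
      sqX := IsPullback.of_horiz_isIso ⟨by rw [Category.id_comp, Category.comp_id]⟩
      e := (Scheme.Modules.pullbackId D.X).app D.F }
  refine (C.good_iff c n).trans (forall_congr' fun a => forall_congr' fun j => forall_congr' fun _ => ?_)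
  exact Module.Flat.equiv_iff (kerSelf (C.L a) j)

variable (D)

/-- Above the fibre dimensions everything is good. -/
theorem exists_bound : ∃ m : ℕ, ∀ (B : Type u) [CommRing B] [Algebra A B] (D' : Datum (Spec (CommRingCat.of B))),
    Cart D' (Spec.map (CommRingCat.ofHom (algebraMap A B))) D → ∀ k, m ≤ k → D'.Good k := by
  obtain ⟨C⟩ := D.nonempty_charts
  haveI := C.fin
  choose b hb using fun a => (C.model a).2.1.exists_hflat
  obtain ⟨M, hM⟩ := (Set.finite_range b).bddAbove
  refine ⟨M.toNat + 1, fun B _ _ D' c k hk => (C.good_iff c k).2 fun a => hb a B k ?_⟩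
  have := hM ⟨a, rfl⟩
  omega

end Datum

namespace Datum

variable {S : Scheme.{u}} {D : Datum S}

/-- Stability for maps of affine schemes. -/
theorem P_stable_affine {n : ℕ} {R R' : Type u} [CommRing R] [CommRing R'] (φ : R →+* R')
    (x : Spec (CommRingCat.of R) ⟶ S) (h : D.P n (Over.mk x)) :
    D.P n (Over.mk (Spec.map (CommRingCat.ofHom φ) ≫ x)) := by
  letI := φ.toAlgebra
  let D₀ : Datum (Spec (CommRingCat.of R)) := D.pull x
  obtain ⟨C⟩ := D₀.nonempty_charts
  refine ((D₀.pullCart (Spec.map (CommRingCat.ofHom (algebraMap R R')))).comp (D.pullCart x)).good_iff_P n |>.1 ?_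
  refine (C.good_iff (D₀.pullCart _) n).2 fun a j hj => ?_
  have h0 : ∀ i, (n : ℤ) ≤ i → Module.Flat R (Hk (C.L a) i) := (C.good_self_iff n).1 h a
  obtain ⟨e⟩ := nonempty_kerEquiv (C.L a) R' j (flat_Qc (C.L a) (C.model a).2.1 n h0 (j + 1) (by omega))
  haveI := h0 j hj
  exact Module.Flat.of_linearEquiv e.symm

/-- The condition is stable under base change. -/
theorem P_stable (n : ℕ) ⦃T T₀ : Over S⦄ (g : T ⟶ T₀) (h : D.P n T₀) : D.P n T := by
  refine P_of_local T fun t => ?_
  obtain ⟨_, ⟨U₀, hU₀, rfl⟩, htU₀, -⟩ := T₀.left.isBasis_affineOpens.exists_subset_of_mem_open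
    (Set.mem_univ (g.left t)) isOpen_univ
  obtain ⟨_, ⟨U, hU, rfl⟩, htU, hUU₀⟩ := T.left.isBasis_affineOpens.exists_subset_of_mem_open
    (show t ∈ g.left ⁻¹ᵁ U₀ from htU₀) (g.left ⁻¹ᵁ U₀).isOpen
  haveI := hU.isOpenImmersion_fromSpec
  haveI := hU₀.isOpenImmersion_fromSpec
  obtain ⟨t', ht'⟩ := hU.range_fromSpec.ge htU
  refine ⟨Over.mk (hU.fromSpec ≫ T.hom), Over.homMk hU.fromSpec rfl, t', inferInstanceAs (Flat hU.fromSpec), ht', ?_⟩
  have h₀ : D.P n (Over.mk (hU₀.fromSpec ≫ T₀.hom)) :=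
    let g₀ : Over.mk (hU₀.fromSpec ≫ T₀.hom) ⟶ T₀ := Over.homMk hU₀.fromSpec rfl
    haveI : Flat g₀.left := inferInstanceAs (Flat hU₀.fromSpec)
    P_of_flat g₀ h
  have h1 := P_stable_affine (g.left.appLE U₀ U hUU₀).hom _ h₀
  rw [← Category.assoc, CommRingCat.ofHom_hom, hU₀.SpecMap_appLE_fromSpec g.left hU hUU₀, Category.assoc, Over.w g] at h1
  exact h1

/-- The condition is a sheaf. -/
theorem isSheaf (n : ℕ) : Presheaf.IsSheaf (QuotSh.J Scheme.fpqcPrecoverage S) (FlatFun.genPSp S (D.P n)) :=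
  Groth.Flatmor4.isSheaf_genPSp _ (P_stable n) fun T => P_of_local T

end Datum

end Groth.HigherImagesFlat
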