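import Groth.Agent.CohBase.FlatBCMap
import Groth.Agent.CohBase.RpushAb
import Groth.Agent.SchemeMorphisms.PrinParts.FlatExact
import Groth.Agent.SiteCohomology.SchemeModules
import Groth.Agent.Flatmor4.FpqcSubterminal
import Groth.Agent.FlatMorOne.FlatBaseChangeScheme
import Groth.Agent.QCohMod.PullbackQCoh
import Groth.Agent.RaynaudGruson.FlatDimScheme
import Mathlib

/-!
Families of finitely presented modules on morphisms of proper schemes over a base, flat over the base, with
base change; flatness of their higher direct images over the base.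
-/

set_option autoImplicit false
set_option linter.style.haveILetI false
universe u

open CategoryTheory CategoryTheory.Limits AlgebraicGeometry Opposite

namespace Groth.HigherImagesFlat

/-- An `S`-morphism of proper finitely presented schemes with a finitely presented module flat over the base. -/
structure Datum (S : Scheme.{u}) where
  X : Scheme.{u}
  Y : Scheme.{u}
  lam : X ⟶ S
  mu : Y ⟶ S
  f : X ⟶ Y
  w : f ≫ mu = lam
  F : X.Modules
  isFP : CohB1.IsFP F
  flat : FlatMod.IsFlatOver lam F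
  proper_lam : IsProper lam
  fp_lam : LocallyOfFinitePresentation lam
  proper_mu : IsProper mu
  fp_mu : LocallyOfFinitePresentation mu

namespace Datum

variable {S : Scheme.{u}} (D : Datum S)

instance : IsProper D.lam := D.proper_lam
instance : IsProper D.mu := D.proper_mu
instance : LocallyOfFinitePresentation D.lam := D.fp_lam
instance : LocallyOfFinitePresentation D.mu := D.fp_mu
instance : IsProper D.f := by
  haveI : IsProper (D.f ≫ D.mu) := D.w.symm ▸ D.proper_lam
  exact IsProper.of_comp D.f D.mu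
instance : D.F.IsQuasicoherent := Groth.RaynaudGruson.FlatDimScheme.isQuasicoherent_of_isFP D.isFP

/-- The higher direct images in degrees `≥ n` are flat over the base. -/
def Good (n : ℕ) : Prop := ∀ i, n ≤ i → FlatMod.IsFlatOver D.mu ((Coh.Rpush D.f i).obj D.F)

/-- `D'` is a base change of `D` along `g`. -/
structure Cart {S' : Scheme.{u}} (D' : Datum S') (g : S' ⟶ S) (D : Datum S) where
  gX : D'.X ⟶ D.X
  gY : D'.Y ⟶ D.Y
  sqY : IsPullback gY D'.mu D.mu g
  sqX : IsPullback gX D'.f D.f gY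
  e : (Scheme.Modules.pullback gX).obj D.F ≅ D'.F

variable {D}

theorem Cart.sqLam {S' : Scheme.{u}} {D' : Datum S'} {g : S' ⟶ S} (c : Cart D' g D) :
    IsPullback c.gX D'.lam D.lam g := by
  rw [← D.w, ← D'.w]
  exact c.sqX.paste_vert c.sqY

/-- Composition of base changes. -/
noncomputable def Cart.comp {S' S'' : Scheme.{u}} {D' : Datum S'} {D'' : Datum S''} {g' : S'' ⟶ S'} {g : S' ⟶ S}
    (c' : Cart D'' g' D') (c : Cart D' g D) : Cart D'' (g' ≫ g) D where
  gX := c'.gX ≫ c.gX
  gY := c'.gY ≫ c.gY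
  sqY := c'.sqY.paste_horiz c.sqY
  sqX := c'.sqX.paste_horiz c.sqX
  e := ((Scheme.Modules.pullbackComp c'.gX c.gX).app D.F).symm ≪≫ (Scheme.Modules.pullback c'.gX).mapIso c.e ≪≫ c'.e

variable (D)

/-- The base change. -/
noncomputable def pull {T : Scheme.{u}} (t : T ⟶ S) : Datum T where
  X := pullback D.lam t
  Y := pullback D.mu t
  lam := pullback.snd D.lam t
  mu := pullback.snd D.mu t
  f := pullback.lift (pullback.fst D.lam t ≫ D.f) (pullback.snd D.lam t)
    (by rw [Category.assoc, D.w, pullback.condition])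
  w := pullback.lift_snd _ _ _
  F := (Scheme.Modules.pullback (pullback.fst D.lam t)).obj D.F
  isFP := Groth.QCohMod.isFP_pullback _ _ D.isFP
  flat := Groth.FlatMorOne.isFlatOver_baseChange (IsPullback.of_hasPullback D.lam t) D.F D.flat
  proper_lam := inferInstance
  fp_lam := inferInstance
  proper_mu := inferInstance
  fp_mu := inferInstance

/-- The base change is a base change. -/
noncomputable def pullCart {T : Scheme.{u}} (t : T ⟶ S) : Cart (D.pull t) t D where
  gX := pullback.fst D.lam t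
  gY := pullback.fst D.mu t
  sqY := IsPullback.of_hasPullback D.mu t
  sqX := by
    refine IsPullback.of_bot ?_ (pullback.lift_fst _ _ _).symm (IsPullback.of_hasPullback D.mu t)
    show IsPullback (pullback.fst D.lam t) (pullback.lift _ (pullback.snd D.lam t) _ ≫ pullback.snd D.mu t) (D.f ≫ D.mu) t
    rw [pullback.lift_snd, D.w]
    exact IsPullback.of_hasPullback D.lam t
  e := Iso.refl _

variable {D}

/-- Comparison of two base changes along the same map. -/
theorem Cart.nonempty_unique {S' : Scheme.{u}} {D₁ D₂ : Datum S'} {g : S' ⟶ S} (c₁ : Cart D₁ g D) (c₂ : Cart D₂ g D) :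
    Nonempty (Cart D₁ (𝟙 S') D₂) := by
  let aY := c₁.sqY.isoIsPullback _ _ c₂.sqY
  let aX := c₁.sqLam.isoIsPullback _ _ c₂.sqLam
  have hY1 : aY.hom ≫ c₂.gY = c₁.gY := c₁.sqY.isoIsPullback_hom_fst _ _ c₂.sqY
  have hY2 : aY.hom ≫ D₂.mu = D₁.mu := c₁.sqY.isoIsPullback_hom_snd _ _ c₂.sqY
  have hX1 : aX.hom ≫ c₂.gX = c₁.gX := c₁.sqLam.isoIsPullback_hom_fst _ _ c₂.sqLam
  have hX2 : aX.hom ≫ D₂.lam = D₁.lam := c₁.sqLam.isoIsPullback_hom_snd _ _ c₂.sqLam
  refine ⟨⟨aX.hom, aY.hom, IsPullback.of_horiz_isIso ⟨by rw [hY2, Category.comp_id]⟩,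
    IsPullback.of_horiz_isIso ⟨c₂.sqY.hom_ext ?_ ?_⟩, ?_⟩⟩
  · rw [Category.assoc, Category.assoc, ← c₂.sqX.w, reassoc_of% hX1, hY1, c₁.sqX.w]
  · rw [Category.assoc, Category.assoc, D₂.w, hX2, hY2, D₁.w]
  · exact (Scheme.Modules.pullback aX.hom).mapIso c₂.e.symm ≪≫
      (Scheme.Modules.pullbackComp aX.hom c₂.gX).app D.F ≪≫ (Scheme.Modules.pullbackCongr hX1).app D.F ≪≫ c₁.e

/-- Higher direct images commute with flat base change. -/
theorem Cart.nonempty_bc {S' : Scheme.{u}} {D' : Datum S'} {g : S' ⟶ S} (c : Cart D' g D) [Flat g] (i : ℕ) :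
    Nonempty ((Scheme.Modules.pullback c.gY).obj ((Coh.Rpush D.f i).obj D.F) ≅ (Coh.Rpush D'.f i).obj D'.F) := by
  haveI : Flat c.gY := MorphismProperty.of_isPullback c.sqY.flip inferInstance
  haveI : Flat c.gX := MorphismProperty.of_isPullback c.sqX.flip inferInstance
  haveI := Groth.PrinPartsAux.preservesFiniteLimits_pullback c.gX
  haveI := Groth.CohBase.FlatBCMap.isIso_bcQ D.f c.gY D'.f c.gX c.sqX D.F i
  exact ⟨asIso (CohBC.bcQ D.f c.gY D'.f c.gX c.sqX.w i D.F) ≪≫ (Coh.Rpush D'.f i).mapIso c.e⟩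

theorem Cart.good_of_flat {S' : Scheme.{u}} {D' : Datum S'} {g : S' ⟶ S} (c : Cart D' g D) [Flat g] {n : ℕ}
    (h : D.Good n) : D'.Good n := by
  intro i hi y
  obtain ⟨e⟩ := c.nonempty_bc i
  haveI := Groth.CohBase.isQCoh_Rpush D.f (M := D.F) i
  exact (Groth.FlatMorOne.isFlatOverAt_congr D'.mu e y).mp
    (Groth.FlatMorOne.isFlatOver_baseChange c.sqY _ (h i hi) y)

/-- Flatness descends along flat base change covering the base. -/
theorem good_of_flat_cover {n : ℕ}
    (h : ∀ s : S, ∃ (S' : Scheme.{u}) (g : S' ⟶ S) (D' : Datum S') (_ : Cart D' g D) (s' : S'),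
      Flat g ∧ g s' = s ∧ D'.Good n) : D.Good n := by
  intro i hi y
  obtain ⟨S', g, D', c, s', hg, hs, hD'⟩ := h (D.mu y)
  haveI := hg
  obtain ⟨y', rfl, -⟩ := Scheme.exists_preimage_of_isPullback c.sqY y s' hs.symm
  obtain ⟨e⟩ := c.nonempty_bc i
  exact Groth.Flatmor4.isFlatOverAt_of_flat_baseChange c.sqY _ y'
    ((Groth.FlatMorOne.isFlatOverAt_congr D'.mu e y').mpr (hD' i hi y'))

/-- The condition only depends on the base change up to isomorphism. -/
theorem Cart.good_iff {S' : Scheme.{u}} {D₁ D₂ : Datum S'} {g : S' ⟶ S} (c₁ : Cart D₁ g D) (c₂ : Cart D₂ g D) (n : ℕ) :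
    D₁.Good n ↔ D₂.Good n := by
  obtain ⟨a⟩ := c₁.nonempty_unique c₂
  obtain ⟨b⟩ := c₂.nonempty_unique c₁
  exact ⟨b.good_of_flat, a.good_of_flat⟩

variable (D)

/-- The condition as a property of schemes over the base. -/
def P (n : ℕ) (T : Over S) : Prop := (D.pull T.hom).Good n

variable {D}

theorem Cart.P_iff {S' : Scheme.{u}} {D' : Datum S'} {g : S' ⟶ S} (c : Cart D' g D) (n : ℕ) (T : Over S') :
    D'.P n T ↔ D.P n (Over.mk (T.hom ≫ g)) :=
  ((D'.pullCart T.hom).comp c).good_iff (D.pullCart (T.hom ≫ g)) n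

theorem Cart.good_iff_P {S' : Scheme.{u}} {D' : Datum S'} {g : S' ⟶ S} (c : Cart D' g D) (n : ℕ) :
    D'.Good n ↔ D.P n (Over.mk g) :=
  c.good_iff (D.pullCart g) n

theorem P_of_flat {n : ℕ} {T T₀ : Over S} (g : T ⟶ T₀) [Flat g.left] (h : D.P n T₀) : D.P n T := by
  have h1 := ((D.pull T₀.hom).pullCart g.left).good_of_flat h
  have h2 := (((D.pull T₀.hom).pullCart g.left).comp (D.pullCart T₀.hom)).good_iff_P n |>.1 h1
  rw [show Over.mk (g.left ≫ T₀.hom) = T from by rw [Over.w g]; rfl] at h2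
  exact h2

/-- The condition is local for flat coverings. -/
theorem P_of_local {n : ℕ} (T : Over S)
    (h : ∀ t : T.left, ∃ (T' : Over S) (g : T' ⟶ T) (t' : T'.left), Flat g.left ∧ g.left t' = t ∧ D.P n T') :
    D.P n T := by
  refine good_of_flat_cover fun t => ?_
  obtain ⟨T', g, t', hg, ht, hP⟩ := h t
  refine ⟨T'.left, g.left, (D.pull T.hom).pull g.left, (D.pull T.hom).pullCart g.left, t', hg, ht, ?_⟩
  refine ((((D.pull T.hom).pullCart g.left).comp (D.pullCart T.hom)).good_iff_P n).2 ?_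
  rw [show Over.mk (g.left ≫ T.hom) = T' from by rw [Over.w g]; rfl]
  exact hP

end Datum

end Groth.HigherImagesFlat
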