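import Groth.Agent.HigherImagesFlat.Step
import Groth.Agent.RaynaudGruson.FlatMonoProper
import Groth.Agent.CohFin.ProjFinite
import Groth.Agent.CohFin.BaseLocal
import Groth.Agent.CohC3.BC.Descent
import Groth.Agent.Limits.ProperFibreModel
import Groth.Agent.LimitMod.ProperFlatModel
import Mathlib

/-!
Flatness of the higher direct images in degrees `≥ n` is represented by a surjective monomorphism of finite
presentation.
-/

set_option autoImplicit false
set_option linter.style.haveILetI false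
set_option backward.isDefEq.respectTransparency.types false
universe u

open CategoryTheory CategoryTheory.Limits AlgebraicGeometry Opposite

namespace Groth.HigherImagesFlat

open Groth.RaynaudGruson Groth.SpectralTopology

namespace Datum

variable {S : Scheme.{u}}

/-- The condition is represented by a monomorphism of finite presentation. -/
def Rep (D : Datum S) (n : ℕ) : Prop :=
  ∃ (Z : Scheme.{u}) (ι : Z ⟶ S), Mono ι ∧ LocallyOfFinitePresentation ι ∧ QuasiCompact ι ∧
    ∀ (T : Scheme.{u}) (t : T ⟶ S), D.P n (Over.mk t) ↔ ∃ k, k ≫ ι = t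

/-- Representations pull back. -/
theorem Cart.rep {S' : Scheme.{u}} {D' : Datum S'} {g : S' ⟶ S} {D : Datum S} (c : Cart D' g D) {n : ℕ}
    (h : D.Rep n) : D'.Rep n := by
  obtain ⟨Z, ι, h1, h2, h3, hZ⟩ := h
  refine ⟨pullback ι g, pullback.snd ι g, inferInstance, inferInstance, inferInstance, fun T t => ?_⟩
  refine (c.P_iff n (Over.mk t)).trans ((hZ T (t ≫ g)).trans ⟨?_, ?_⟩)
  · rintro ⟨k, hk⟩
    exact ⟨pullback.lift k t hk, pullback.lift_snd _ _ _⟩
  · rintro ⟨k, hk⟩
    exact ⟨k ≫ pullback.fst ι g, by rw [Category.assoc, pullback.condition, ← Category.assoc, hk]⟩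

/-- Above the fibre dimension the condition is empty. -/
theorem exists_bound_P {A : Type u} [CommRing A] (D : Datum (Spec (CommRingCat.of A))) :
    ∃ m : ℕ, ∀ k, m ≤ k → ∀ (T : Scheme.{u}) (t : T ⟶ Spec (CommRingCat.of A)), D.P k (Over.mk t) := by
  obtain ⟨m, hm⟩ := D.exists_bound
  refine ⟨m, fun k hk T t => P_of_local _ fun x => ?_⟩
  obtain ⟨_, ⟨U, hU, rfl⟩, hxU, -⟩ := T.isBasis_affineOpens.exists_subset_of_mem_open (Set.mem_univ x) isOpen_univ
  haveI := hU.isOpenImmersion_fromSpec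
  obtain ⟨x', hx'⟩ := hU.range_fromSpec.ge hxU
  obtain ⟨φ, hφ⟩ := Spec.map_surjective (hU.fromSpec ≫ t)
  refine ⟨Over.mk (hU.fromSpec ≫ t), Over.homMk hU.fromSpec rfl, x', inferInstanceAs (Flat hU.fromSpec), hx', ?_⟩
  letI : Algebra A Γ(T, U) := φ.hom.toAlgebra
  have h := hm Γ(T, U) _ (D.pullCart (Spec.map (CommRingCat.ofHom (algebraMap A Γ(T, U))))) k hk
  have hφ' : Spec.map (CommRingCat.ofHom (algebraMap A Γ(T, U))) = hU.fromSpec ≫ t := hφ
  rw [← hφ']
  exact h

/-- Descending induction over an affine Noetherian base. -/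
theorem rep_of_isNoetherian {A : Type u} [CommRing A] [IsNoetherianRing A] (D : Datum (Spec (CommRingCat.of A)))
    (n : ℕ) : D.Rep n := by
  obtain ⟨m, hm⟩ := D.exists_bound_P
  suffices h : ∀ (j n : ℕ), m ≤ n + j → D.Rep n from h m n (by omega)
  intro j
  induction j with
  | zero => exact fun n hn => ⟨_, 𝟙 _, inferInstance, inferInstance, inferInstance,
      fun T t => iff_of_true (hm n hn T t) ⟨t, Category.comp_id t⟩⟩
  | succ j ih =>
    intro n hn
    obtain ⟨Z, ι, hι1, hι2, hι3, hZ⟩ := ih (n + 1) (by omega)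
    haveI : IsLocallyNoetherian Z := LocallyOfFiniteType.isLocallyNoetherian ι
    let D₁ := D.pull ι
    have hD₁ : D₁.Good (n + 1) := (hZ Z ι).2 ⟨𝟙 Z, Category.id_comp ι⟩
    haveI : IsLocallyNoetherian D₁.X := LocallyOfFiniteType.isLocallyNoetherian D₁.lam
    haveI : IsLocallyNoetherian D₁.Y := LocallyOfFiniteType.isLocallyNoetherian D₁.mu
    let G := (Coh.Rpush D₁.f n).obj D₁.F
    have hG : Coh.IsCoh G := CohFin.isCoh_rightDerived_of_proper CohFin.projFinite D₁.f n D₁.F
      ⟨inferInstance, Groth.PropsBasic.LocFree.isFT_of_isFP D₁.F D₁.isFP⟩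
    haveI : G.IsQuasicoherent := hG.1
    obtain ⟨W, w, hw1, hw2, hw3, hW⟩ :=
      FlatMonoProper.exists_monoRep_flat D₁.mu G (Groth.CohC3.BC.isFP_of_isCoh G hG)
    haveI : Mono (w.left : W.left ⟶ Z) := hw1
    haveI : LocallyOfFinitePresentation (w.left : W.left ⟶ Z) := hw2
    haveI : QuasiCompact (w.left : W.left ⟶ Z) := hw3
    have key : ∀ (T : Scheme.{u}) (k : T ⟶ Z),
        D.P n (Over.mk (k ≫ ι)) ↔ ∃ l : T ⟶ W.left, l ≫ w.left = k := fun T k => by
      refine ((D.pullCart ι).P_iff n (Over.mk k)).symm.trans ((P_iff_flat hD₁ (Over.mk k)).trans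
        ((hW (Over.homMk k (Category.comp_id k) : Over.mk k ⟶ Over.mk (𝟙 Z))).trans ⟨?_, ?_⟩))
      · rintro ⟨l, hl⟩
        exact ⟨l.left, congrArg CommaMorphism.left hl⟩
      · rintro ⟨l, hl⟩
        refine ⟨Over.homMk l ?_, Over.OverMorphism.ext hl⟩
        show l ≫ W.hom = k
        rw [← Over.w w]
        exact ((Category.assoc _ _ _).symm.trans (Category.comp_id _)).trans hl
    refine ⟨W.left, w.left ≫ ι, mono_comp (w.left : W.left ⟶ Z) ι,
      inferInstanceAs (LocallyOfFinitePresentation ((w.left : W.left ⟶ Z) ≫ ι)),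
      inferInstanceAs (QuasiCompact ((w.left : W.left ⟶ Z) ≫ ι)), fun T t => ⟨fun hP => ?_, ?_⟩⟩
    · obtain ⟨k, rfl⟩ := (hZ T t).1 fun i hi => hP i (by omega)
      obtain ⟨l, rfl⟩ := (key T k).1 hP
      exact ⟨l, (Category.assoc _ _ _).symm⟩
    · rintro ⟨l, rfl⟩
      exact (congrArg (fun s => D.P n (Over.mk s)) (Category.assoc l (w.left : W.left ⟶ Z) ι)).mp
        ((key T (l ≫ w.left)).2 ⟨l, rfl⟩)

/-- A datum over an affine scheme comes from one over a Noetherian affine scheme. -/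
theorem exists_noetherian_model {A : Type u} [CommRing A] (D : Datum (Spec (CommRingCat.of A))) :
    ∃ (A₀ : Type u) (_ : CommRing A₀) (_ : IsNoetherianRing A₀) (g : Spec (CommRingCat.of A) ⟶ Spec (CommRingCat.of A₀))
      (D₀ : Datum (Spec (CommRingCat.of A₀))), Nonempty (Cart D g D₀) := by
  let R := CommRingCat.of A
  let Ds := fgSchemes R
  let c := fgCone R
  have hc := isLimitFgCone R
  haveI : ∀ i, IsAffine (Ds.obj i) := fun i => inferInstanceAs (IsAffine (Spec _))
  haveI := Groth.LimitMod.isCofiltered_fgSub R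
  let lam : D.X ⟶ c.pt := D.lam
  let mu : D.Y ⟶ c.pt := D.mu
  haveI : IsProper lam := D.proper_lam
  haveI : LocallyOfFinitePresentation lam := D.fp_lam
  haveI : IsProper mu := D.proper_mu
  haveI : LocallyOfFinitePresentation mu := D.fp_mu
  obtain ⟨i₁, MX, F₀, hq, hfp, hpX, ⟨eX⟩, hfl⟩ :=
    Groth.LimitMod.exists_proper_flat_stage hc (f := lam) D.F D.isFP D.flat
  obtain ⟨i₂, MY, hpY⟩ := Groth.Limits.exists_proper_stageModel hc mu
  let k := IsCofiltered.min i₁ i₂
  let MX₁ := MX.pull (IsCofiltered.minToLeft i₁ i₂)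
  let MY₁ := MY.pull (IsCofiltered.minToRight i₁ i₂)
  obtain ⟨j, φ, g, hg, hg'⟩ := MX₁.exists_hom hc MY₁.hom (D.f ≫ MY₁.map) (by
    rw [Category.assoc, MY₁.sq.w, ← Category.assoc]
    exact congrArg (· ≫ c.π.app k) D.w)
  let Mx := MX₁.pull φ
  let My := MY₁.pull φ
  haveI : IsProper MX₁.hom := MorphismProperty.pullback_fst _ _ hpX
  haveI : IsProper MY₁.hom := MorphismProperty.pullback_fst _ _ hpY
  haveI : IsProper Mx.hom := MorphismProperty.pullback_fst _ _ ‹IsProper MX₁.hom›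
  haveI : IsProper My.hom := MorphismProperty.pullback_fst _ _ ‹IsProper MY₁.hom›
  let q : Mx.obj ⟶ MX.obj := MX₁.proj φ ≫ MX.proj (IsCofiltered.minToLeft i₁ i₂)
  have hfj : FlatMod.IsFlatOver Mx.hom ((Scheme.Modules.pullback q).obj F₀) :=
    Groth.FlatMorOne.isFlatOver_baseChange
      ((IsPullback.of_hasPullback (Ds.map φ) MX₁.hom).flip.paste_horiz
        (IsPullback.of_hasPullback (Ds.map _) MX.hom).flip) F₀ hfl
  let fj : Mx.obj ⟶ My.obj := pullback.lift Mx.hom g hg.symm
  haveI : Algebra.FiniteType ℤ j.unop.1 := j.unop.1.fg_iff_finiteType.1 j.unop.2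
  refine ⟨j.unop.1, inferInstance, Algebra.FiniteType.isNoetherianRing ℤ _, c.π.app j,
    { X := Mx.obj, Y := My.obj, lam := Mx.hom, mu := My.hom, f := fj, w := pullback.lift_fst _ _ _
      F := (Scheme.Modules.pullback q).obj F₀
      isFP := Groth.QCohMod.isFP_pullback _ _ hfp
      flat := hfj
      proper_lam := ‹IsProper Mx.hom›, fp_lam := Mx.lfp, proper_mu := ‹IsProper My.hom›, fp_mu := My.lfp },
    ⟨{ gX := Mx.map, gY := My.map, sqY := My.sq, sqX := ?_, e := ?_ }⟩⟩
  · refine IsPullback.of_bot ?_ ?_ My.sq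
    · show IsPullback Mx.map (D.f ≫ D.mu) (fj ≫ My.hom) (c.π.app j)
      rw [D.w, show fj ≫ My.hom = Mx.hom from pullback.lift_fst _ _ _]
      exact Mx.sq
    · apply pullback.hom_ext
      · show (Mx.map ≫ fj) ≫ pullback.fst _ _ = (D.f ≫ My.map) ≫ pullback.fst _ _
        rw [Category.assoc, Category.assoc, pullback.lift_fst, pullback.lift_fst, pullback.lift_fst, ← Category.assoc]
        exact (congrArg (· ≫ c.π.app j) D.w).symm
      · show (Mx.map ≫ fj) ≫ pullback.snd _ _ = (D.f ≫ My.map) ≫ pullback.snd _ _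
        rw [Category.assoc, Category.assoc, pullback.lift_snd, pullback.lift_snd]
        exact hg'
  · exact (Scheme.Modules.pullbackComp Mx.map q).app F₀ ≪≫
      (Scheme.Modules.pullbackCongr (show Mx.map ≫ q = MX.map by
        rw [← Category.assoc, StageModel.map_proj, StageModel.map_proj])).app F₀ ≪≫ eX

/-- Representability over an affine base. -/
theorem rep_affine {A : Type u} [CommRing A] (D : Datum (Spec (CommRingCat.of A))) (n : ℕ) : D.Rep n := by
  obtain ⟨A₀, _, _, g, D₀, ⟨c⟩⟩ := D.exists_noetherian_model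
  exact c.rep (D₀.rep_of_isNoetherian n)

open SubtermRep in
/-- Representability. -/
theorem rep (D : Datum S) (n : ℕ) : D.Rep n := by
  haveI : Mono (Over.mk (𝟙 S)).hom := inferInstanceAs (Mono (𝟙 S))
  have h : MonoRep (D.P n) (Over.mk (𝟙 S)) := by
    refine monoRep_of_etale_local (D.P n) (P_stable n) (D.isSheaf n) (Over.mk (𝟙 S))
      (fun T _ => ⟨Over.mkIdTerminal.from T⟩) fun z => ?_
    obtain ⟨_, ⟨U, hU, rfl⟩, hzU, -⟩ := S.isBasis_affineOpens.exists_subset_of_mem_open (Set.mem_univ z) isOpen_univ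
    haveI := hU.isOpenImmersion_fromSpec
    obtain ⟨x, hx⟩ := hU.range_fromSpec.ge hzU
    refine ⟨Over.mk hU.fromSpec, Over.homMk hU.fromSpec (Category.comp_id _), inferInstanceAs (Etale hU.fromSpec),
      ⟨x, hx⟩, ?_⟩
    obtain ⟨Z, ι, h1, h2, h3, hZ⟩ := rep_affine (D.pull hU.fromSpec) n
    refine ⟨Over.mk (ι ≫ hU.fromSpec), Over.homMk ι rfl, h1, h2, h3, fun T hT => ?_⟩
    have hw : Over.mk (hT.left ≫ hU.fromSpec) = T := by rw [show hT.left ≫ hU.fromSpec = T.hom from Over.w hT]; rfl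
    have h4 := ((D.pullCart hU.fromSpec).P_iff n (Over.mk hT.left)).symm.trans (hZ T.left hT.left)
    refine ((congrArg (D.P n) hw).to_iff.symm.trans h4).trans ⟨?_, ?_⟩
    · rintro ⟨k, hk⟩
      refine ⟨Over.homMk k ?_, Over.OverMorphism.ext hk⟩
      show k ≫ ι ≫ hU.fromSpec = T.hom
      rw [reassoc_of% hk]
      exact Over.w hT
    · rintro ⟨k, hk⟩
      exact ⟨k.left, congrArg CommaMorphism.left hk⟩
  obtain ⟨W, w, h1, h2, h3, hW⟩ := h
  refine ⟨W.left, w.left, h1, h2, h3, fun T t => (hW (Over.homMk t (Category.comp_id t) : Over.mk t ⟶ Over.mk (𝟙 S))).trans ⟨?_, ?_⟩⟩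
  · rintro ⟨k, hk⟩
    exact ⟨k.left, congrArg CommaMorphism.left hk⟩
  · rintro ⟨k, hk⟩
    refine ⟨Over.homMk k ?_, Over.OverMorphism.ext hk⟩
    show k ≫ W.hom = t
    rw [← Over.w w]
    exact ((Category.assoc _ _ _).symm.trans (Category.comp_id _)).trans hk

/-- The representing monomorphism is surjective. -/
theorem rep_surjective {D : Datum S} {n : ℕ} {Z : Scheme.{u}} (ι : Z ⟶ S)
    (h : ∀ (T : Scheme.{u}) (t : T ⟶ S), D.P n (Over.mk t) ↔ ∃ k, k ≫ ι = t) : Surjective ι := by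
  refine ⟨fun s => ?_⟩
  obtain ⟨k, hk⟩ := (h _ (S.fromSpecResidueField s)).1 fun i _ =>
    FlatMonoProper.isFlatOver_field (K := S.residueField s) _ _
  obtain ⟨x⟩ : Nonempty (Spec (S.residueField s) : Scheme.{u}) := inferInstance
  exact ⟨k x, (congr($hk x)).trans (S.fromSpecResidueField_apply s x)⟩

end Datum

end Groth.HigherImagesFlat
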