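import Groth.Agent.HigherImagesFlat.Datum
import Groth.Agent.HigherImagesFlat.Algebra
import Groth.Agent.CohBase.LocalModelFP
import Mathlib

/-!
Čech models of higher direct images over affine opens, over an affine base, with all base changes.
-/

set_option autoImplicit false
set_option linter.style.haveILetI false
universe u

open CategoryTheory CategoryTheory.Limits AlgebraicGeometry Opposite TopologicalSpace
open scoped TensorProduct
open Groth.QCohMod (resFun resFun_resFun)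

namespace Groth.HigherImagesFlat

open Groth.CohBase Groth.CohBase.CxRank Groth.FlatCxBase

theorem toGlobal_preimageToSpec {X Y : Scheme.{u}} (f : X ⟶ Y) {A : Type u} [CommRing A]
    (mu : Y ⟶ Spec (CommRingCat.of A)) (V : Y.Opens) (a : A) :
    Coh.toGlobal (preimageToSpec f (V := V)) (letI : Y.Over (Spec (CommRingCat.of A)) := ⟨mu⟩; toSec A V a) =
      Coh.toGlobal ((f ⁻¹ᵁ V).ι ≫ f ≫ mu) a := by
  letI : Y.Over (Spec (CommRingCat.of A)) := ⟨mu⟩
  have h := appIso_preimageToSpec f (V := V) (toSec A V a)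
  apply ((f ⁻¹ᵁ V).ι.appIso ⊤).commRingCatIsoToRingEquiv.symm.injective
  have h1 : (f ⁻¹ᵁ V).topIso.hom (Coh.toGlobal (preimageToSpec f) (toSec A V a)) = (f.app V).hom (toSec A V a) := by
    rw [← h, Scheme.Opens.ι_appIso, Scheme.Opens.topIso_hom]
    rfl
  have key : ((f ⁻¹ᵁ V).ι ≫ f ≫ mu).appTop ≫ (f ⁻¹ᵁ V).topIso.hom =
      mu.appTop ≫ Y.presheaf.map (homOfLE (le_top : V ≤ ⊤)).op ≫ f.app V := by
    rw [f.naturality (homOfLE (le_top : V ≤ ⊤)).op, Scheme.Hom.comp_appTop, Scheme.Hom.comp_appTop, Scheme.Opens.topIso_hom,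
      Scheme.Opens.ι_appTop]
    simp only [Category.assoc]
    erw [← X.presheaf.map_comp]
    rfl
  have h2 : (f ⁻¹ᵁ V).topIso.hom (Coh.toGlobal ((f ⁻¹ᵁ V).ι ≫ f ≫ mu) a) = (f.app V).hom (toSec A V a) :=
    congr($key ((Scheme.ΓSpecIso (CommRingCat.of A)).inv a))
  exact congrArg _ ((ConcreteCategory.bijective_of_isIso (f ⁻¹ᵁ V).topIso.hom).1 (h1.trans h2.symm))

/-- Sections of higher direct images over an affine open, linearly over the base. -/
theorem exists_Rpush_secEquiv {X Y : Scheme.{u}} (f : X ⟶ Y) [QuasiCompact f] [QuasiSeparated f] {A : Type u}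
    [CommRing A] (mu : Y ⟶ Spec (CommRingCat.of A)) (M : X.Modules) [M.IsQuasicoherent] (i : ℕ) {V : Y.Opens}
    (hV : IsAffineOpen V) {U : X.Opens} (hU : U = f ⁻¹ᵁ V) :
    letI : Y.Over (Spec (CommRingCat.of A)) := ⟨mu⟩
    Nonempty (secA A ((Coh.Rpush f i).obj M) V ≃ₗ[A] CohFin.HA (U.ι ≫ f ≫ mu) (M.restrict U.ι) i) := by
  subst hU
  letI : Y.Over (Spec (CommRingCat.of A)) := ⟨mu⟩
  letI : ((f ⁻¹ᵁ V : X.Opens) : Scheme.{u}).Over (Spec (CommRingCat.of Γ(Y, V))) := ⟨preimageToSpec f⟩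
  obtain ⟨e⟩ := exists_Rpush_linEquiv f (M := M) i hV
  let e' : secA A ((Coh.Rpush f i).obj M) V ≃+ CohFin.HA ((f ⁻¹ᵁ V).ι ≫ f ≫ mu) (M.restrict (f ⁻¹ᵁ V).ι) i := e.toAddEquiv
  refine ⟨e'.toLinearEquiv fun a s => ?_⟩
  refine (e.map_smul (toSec A V a) s).trans ?_
  exact congrArg (fun r : Coh.Γtop (f ⁻¹ᵁ V : X.Opens) => r • (e s : Coh.HH (f ⁻¹ᵁ V : X.Opens) (M.restrict (f ⁻¹ᵁ V).ι) i))
    (toGlobal_preimageToSpec f mu V a)

namespace Datum

variable {A : Type u} [CommRing A] (D : Datum (Spec (CommRingCat.of A)))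

/-- A complex over `A` computing the sections over `V` of the higher direct images of all base changes. -/
def IsModel (V : D.Y.Opens) (L : CochainComplex (ModuleCat.{u} A) ℤ) : Prop :=
  (∀ i, Module.Flat A (L.X i)) ∧ HasBound L ∧
    ∀ (B : Type u) [CommRing B] [Algebra A B] (D' : Datum (Spec (CommRingCat.of B)))
      (c : Cart D' (Spec.map (CommRingCat.ofHom (algebraMap A B))) D) (i : ℕ),
      letI : D'.Y.Over (Spec (CommRingCat.of B)) := ⟨D'.mu⟩
      Nonempty (secA B ((Coh.Rpush D'.f i).obj D'.F) (c.gY ⁻¹ᵁ V) ≃ₗ[B] LinearMap.ker ((dq L (i : ℤ)).baseChange B))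

set_option maxHeartbeats 1000000 in
theorem exists_isModel {V : D.Y.Opens} (hV : IsAffineOpen V) : ∃ L, D.IsModel V L := by
  let U : D.X.Opens := D.f ⁻¹ᵁ V
  haveI : D.X.IsSeparated := CohFin.isSeparated_of_proper D.lam
  haveI : CompactSpace (U : Scheme.{u}) := isCompact_iff_compactSpace.1 (D.f.isCompact_preimage hV.isCompact)
  haveI : (U : Scheme.{u}).IsSeparated := by
    rw [Scheme.isSeparated_iff, show terminal.from (U : Scheme.{u}) = U.ι ≫ terminal.from D.X from Subsingleton.elim _ _]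
    infer_instance
  letI : (U : Scheme.{u}).Over (Spec (CommRingCat.of A)) := ⟨U.ι ≫ D.lam⟩
  let F₀ := D.F.restrict U.ι
  haveI : F₀.IsQuasicoherent := Scheme.Modules.isQuasicoherent_restrictFunctor _ D.F
  obtain ⟨cov⟩ := exists_goodCover (U : Scheme.{u})
  have hfl : FlatMod.IsFlatOver (U.ι ≫ D.lam) F₀ := fun x =>
    (Groth.FlatMorOne.isFlatOverAt_congr _ ((Scheme.Modules.restrictFunctorIsoPullback U.ι).app D.F) x).mpr
      ((Groth.Flatmor4.isFlatOverAt_pullback_iff U.ι D.lam D.F x (Flat.stalkMap U.ι x)).mp (D.flat _))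
  refine ⟨cxA A cov.U F₀, flat_cxA A cov.U F₀ fun x => flat_secA A F₀ hfl (cov.affine x),
    exists_isZero_T A cov F₀, fun B _ _ D' c i => ?_⟩
  letI : D'.Y.Over (Spec (CommRingCat.of B)) := ⟨D'.mu⟩
  haveI : IsAffineHom c.gY := MorphismProperty.of_isPullback c.sqY.flip inferInstance
  let U' : D'.X.Opens := c.gX ⁻¹ᵁ U
  have hU' : U' = D'.f ⁻¹ᵁ (c.gY ⁻¹ᵁ V) := by
    rw [← Scheme.Hom.comp_preimage, ← c.sqX.w, Scheme.Hom.comp_preimage]
  obtain ⟨e₁⟩ := exists_Rpush_secEquiv D'.f D'.mu D'.F i (hV.preimage c.gY) hU'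
  letI : (U' : Scheme.{u}).Over (Spec (CommRingCat.of B)) := ⟨U'.ι ≫ D'.f ≫ D'.mu⟩
  have hbc : IsBC (A := A) (A' := B) (c.gX ∣_ U) := by
    have h := (isPullback_morphismRestrict c.gX U).paste_vert (D'.w.symm ▸ c.sqLam)
    exact h
  let ι : (Scheme.Modules.pullback (c.gX ∣_ U)).obj F₀ ≅ D'.F.restrict U'.ι :=
    (Scheme.Modules.pullback (c.gX ∣_ U)).mapIso ((Scheme.Modules.restrictFunctorIsoPullback U.ι).app D.F) ≪≫
      (Scheme.Modules.pullbackComp (c.gX ∣_ U) U.ι).app D.F ≪≫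
      (Scheme.Modules.pullbackCongr (morphismRestrict_ι c.gX U)).app D.F ≪≫
      ((Scheme.Modules.pullbackComp U'.ι c.gX).app D.F).symm ≪≫
      (Scheme.Modules.pullback U'.ι).mapIso c.e ≪≫
      ((Scheme.Modules.restrictFunctorIsoPullback U'.ι).app D'.F).symm
  obtain ⟨e₂⟩ := exists_bc_kerEquiv hbc cov F₀ (𝟙 (cxA A cov.U F₀))
    (fun M => by rw [CategoryTheory.Functor.map_id]; infer_instance) ι i
  exact ⟨e₁.trans e₂⟩

end Datum

end Groth.HigherImagesFlat
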