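import Groth.Agent.HigherImagesFlat.Criterion
import Groth.Agent.CohTwo.BaseChangeTensor
import Mathlib

/-!
With flat higher direct images above degree `n`, flatness in degree `n` is flatness of the inverse image of the
degree `n` higher direct image.
-/

set_option autoImplicit false
set_option linter.style.haveILetI false
universe u

open CategoryTheory CategoryTheory.Limits AlgebraicGeometry Opposite TopologicalSpace
open scoped TensorProduct

namespace Groth.HigherImagesFlat

open Groth.CohBase Groth.CohBase.CxRank Groth.FlatCxBase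
open Groth.RaynaudGruson

/-- Sections of an inverse image along a change of the base ring, linearly. -/
theorem exists_bcSecEquiv {A B : Type u} [CommRing A] [CommRing B] [Algebra A B] {Y Y' : Scheme.{u}}
    (mu : Y ⟶ Spec (CommRingCat.of A)) (mu' : Y' ⟶ Spec (CommRingCat.of B)) (g : Y' ⟶ Y)
    (sq : IsPullback g mu' mu (Spec.map (CommRingCat.ofHom (algebraMap A B)))) (G : Y.Modules) [G.IsQuasicoherent]
    {V : Y.Opens} (hV : IsAffineOpen V) :
    letI : Y.Over (Spec (CommRingCat.of A)) := ⟨mu⟩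
    letI : Y'.Over (Spec (CommRingCat.of B)) := ⟨mu'⟩
    Nonempty (B ⊗[A] secA A G V ≃ₗ[B] secA B ((Scheme.Modules.pullback g).obj G) (g ⁻¹ᵁ V)) := by
  letI : Y.Over (Spec (CommRingCat.of A)) := ⟨mu⟩
  letI : Y'.Over (Spec (CommRingCat.of B)) := ⟨mu'⟩
  have hsq : IsBC (A := A) (A' := B) g := sq
  exact ⟨LinearEquiv.ofBijective (Groth.CohTwo.bcSecLin hsq G V)
    ((bcSec_bijective hsq G hV).comp (TensorProduct.comm A B (secA A G V)).bijective)⟩

namespace Datum

variable {A : Type u} [CommRing A] {D : Datum (Spec (CommRingCat.of A))}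

/-- The higher direct image over a chart in terms of the model. -/
theorem Charts.exists_secEquiv (C : D.Charts) (a : C.ι) (i : ℕ) :
    letI : D.Y.Over (Spec (CommRingCat.of A)) := ⟨D.mu⟩
    Nonempty (secA A ((Coh.Rpush D.f i).obj D.F) (C.V a) ≃ₗ[A] Hk (C.L a) i) := by
  letI : D.Y.Over (Spec (CommRingCat.of A)) := ⟨D.mu⟩
  have h : Spec.map (CommRingCat.ofHom (algebraMap A A)) = 𝟙 _ := Spec.map_id _
  haveI : IsIso (Spec.map (CommRingCat.ofHom (algebraMap A A))) := by rw [h]; infer_instance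
  let c : Cart D (Spec.map (CommRingCat.ofHom (algebraMap A A))) D :=
    { gX := 𝟙 _, gY := 𝟙 _
      sqY := IsPullback.of_horiz_isIso ⟨by rw [h, Category.id_comp, Category.comp_id]⟩
      sqX := IsPullback.of_horiz_isIso ⟨by rw [Category.id_comp, Category.comp_id]⟩
      e := (Scheme.Modules.pullbackId D.X).app D.F }
  obtain ⟨e⟩ := (C.model a).2.2 A D c i
  exact ⟨e.trans (kerSelf (C.L a) i)⟩

/-- The key step over an affine base. -/
theorem P_affine_iff_flat {n : ℕ} (hD : D.Good (n + 1)) {B : Type u} [CommRing B] (φ : A →+* B) :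
    D.P n (Over.mk (Spec.map (CommRingCat.ofHom φ))) ↔
      FlatDimScheme.P D.mu ((Coh.Rpush D.f n).obj D.F) 0 (Over.mk (Spec.map (CommRingCat.ofHom φ))) := by
  letI := φ.toAlgebra
  let D' : Datum (Spec (CommRingCat.of B)) := D.pull (Spec.map (CommRingCat.ofHom (algebraMap A B)))
  let c : Cart D' (Spec.map (CommRingCat.ofHom (algebraMap A B))) D := D.pullCart _
  letI : D.Y.Over (Spec (CommRingCat.of A)) := ⟨D.mu⟩
  letI : D'.Y.Over (Spec (CommRingCat.of B)) := ⟨D'.mu⟩
  haveI : IsAffineHom c.gY := MorphismProperty.of_isPullback c.sqY.flip inferInstance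
  obtain ⟨C⟩ := D.nonempty_charts
  let G := (Coh.Rpush D.f n).obj D.F
  haveI : G.IsQuasicoherent := Groth.CohBase.isQCoh_Rpush D.f (M := D.F) n
  refine (C.good_iff c n).trans (Iff.trans ?_ (FlatDimScheme.P_zero_iff D.mu G _).symm)
  show _ ↔ FlatMod.IsFlatOver D'.mu ((Scheme.Modules.pullback c.gY).obj G)
  refine Iff.trans ?_ (isFlatOver_iff_secA D'.mu _ (fun a => c.gY ⁻¹ᵁ C.V a) (fun a => (C.aff a).preimage c.gY)
    fun y => C.cov (c.gY y)).symm
  refine forall_congr' fun a => ?_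
  obtain ⟨e⟩ := C.exists_secEquiv a n
  obtain ⟨e'⟩ := exists_bcSecEquiv D.mu D'.mu c.gY c.sqY G (C.aff a)
  refine (hflat_iff (C.L a) (C.model a).2.1 n ?_ B).trans ?_
  · exact (C.good_self_iff (n + 1)).1 hD a
  · exact (Module.Flat.equiv_iff (e.baseChange A B _ _)).symm.trans (Module.Flat.equiv_iff e')

end Datum

namespace Datum

variable {S : Scheme.{u}} {D : Datum S}

/-- The key step over any base. -/
theorem P_iff_flat {n : ℕ} (hD : D.Good (n + 1)) (T : Over S) :
    D.P n T ↔ FlatDimScheme.P D.mu ((Coh.Rpush D.f n).obj D.F) 0 T := by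
  let G := (Coh.Rpush D.f n).obj D.F
  haveI : G.IsQuasicoherent := Groth.CohBase.isQCoh_Rpush D.f (M := D.F) n
  have key : ∀ (R R' : Type u) [CommRing R] [CommRing R'] (j : Spec (CommRingCat.of R) ⟶ S), IsOpenImmersion j →
      ∀ φ : R →+* R', D.P n (Over.mk (Spec.map (CommRingCat.ofHom φ) ≫ j)) ↔
        FlatDimScheme.P D.mu G 0 (Over.mk (Spec.map (CommRingCat.ofHom φ) ≫ j)) := fun R R' _ _ j hj φ => by
    haveI := hj
    let c := D.pullCart j
    refine (c.P_iff n (Over.mk (Spec.map (CommRingCat.ofHom φ)))).symm.trans ((P_affine_iff_flat (c.good_of_flat hD) φ).trans ?_)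
    obtain ⟨e⟩ := c.nonempty_bc n
    exact (FlatDimScheme.P_congr rfl e.symm 0 _).trans (FlatDimScheme.P_baseChange_self c.sqY G 0 _)
  have cov : ∀ t : T.left, ∃ (R R' : Type u) (_ : CommRing R) (_ : CommRing R') (j : Spec (CommRingCat.of R) ⟶ S)
      (_ : IsOpenImmersion j) (φ : R →+* R') (g : Over.mk (Spec.map (CommRingCat.ofHom φ) ≫ j) ⟶ T)
      (t' : (Spec (CommRingCat.of R') : Scheme.{u})), Flat g.left ∧ g.left t' = t := fun t => by
    obtain ⟨_, ⟨U₀, hU₀, rfl⟩, htU₀, -⟩ := S.isBasis_affineOpens.exists_subset_of_mem_open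
      (Set.mem_univ (T.hom t)) isOpen_univ
    obtain ⟨_, ⟨U, hU, rfl⟩, htU, hUU₀⟩ := T.left.isBasis_affineOpens.exists_subset_of_mem_open
      (show t ∈ T.hom ⁻¹ᵁ U₀ from htU₀) (T.hom ⁻¹ᵁ U₀).isOpen
    haveI := hU.isOpenImmersion_fromSpec
    haveI := hU₀.isOpenImmersion_fromSpec
    obtain ⟨t', ht'⟩ := hU.range_fromSpec.ge htU
    exact ⟨Γ(S, U₀), Γ(T.left, U), inferInstance, inferInstance, hU₀.fromSpec, inferInstance,
      (T.hom.appLE U₀ U hUU₀).hom, Over.homMk hU.fromSpec (hU₀.SpecMap_appLE_fromSpec T.hom hU hUU₀).symm,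
      t', inferInstanceAs (Flat hU.fromSpec), ht'⟩
  constructor
  · intro h
    refine FlatDimScheme.of_local D.mu G 0 T fun t => ?_
    obtain ⟨R, R', _, _, j, hj, φ, g, t', hg, ht⟩ := cov t
    exact ⟨_, g, t', hg, ht, (key R R' j hj φ).1 (P_stable n g h)⟩
  · intro h
    refine P_of_local T fun t => ?_
    obtain ⟨R, R', _, _, j, hj, φ, g, t', hg, ht⟩ := cov t
    exact ⟨_, g, t', hg, ht, (key R R' j hj φ).2 (FlatDimScheme.stable D.mu G 0 g h)⟩

end Datum

end Groth.HigherImagesFlat
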